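import Cfsg.Agent.Schur.J2.Base

set_option autoImplicit false
set_option maxRecDepth 100000

namespace Cfsg.Agent.Schur.J2
open Cfsg.Agent.Comp Cfsg.Agent.Schur

namespace P2

noncomputable def x0 : Net :=
(Net.cons (nat_lit 0x23b0defcb164) (nat_lit 50)
(Net.cons (nat_lit 0x238750000000074d834) (nat_lit 25)
(Net.cons (nat_lit 0x300000055c0001c0000814) (nat_lit 13)
(Net.cons (nat_lit 0x2201f800003c03807a010038) (nat_lit 6)
(Net.cons (nat_lit 0xa0003060000800820c040) (nat_lit 3)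
(Net.cons (nat_lit 0x10000209024100802090040) (nat_lit 2)
(Net.cons (nat_lit 0x2015209208924904482492248) (nat_lit 1)
(Net.cons (nat_lit 0x3200000124900802090601) (nat_lit 2)
(Net.cons (nat_lit 0x450a10a0821870838808a1c6) (nat_lit 3)
(Net.cons (nat_lit 0x3100601080b40f401e03603a) (nat_lit 6)
(Net.cons (nat_lit 0x2ca80019c80016e8000792) (nat_lit 13)
(Net.cons (nat_lit 0xe2c1b8000000038fe2) (nat_lit 25)
(Net.cons (nat_lit 0x3dc4f21034e9b) (nat_lit 50)
Net.nil)))))))))))))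

noncomputable def x1 : Net :=
(Net.cons (nat_lit 0x2029e391d6220) (nat_lit 50)
(Net.cons (nat_lit 0x62cd94000000006e9c0) (nat_lit 25)
(Net.cons (nat_lit 0x3820000d04001434000750) (nat_lit 13)
(Net.cons (nat_lit 0x2c01d00200b409001c000024) (nat_lit 6)
(Net.cons (nat_lit 0x18000004201080001001040c0) (nat_lit 3)
(Net.cons (nat_lit 0x400200041004020092010048) (nat_lit 2)
(Net.cons (nat_lit 0x401200240824924092410048) (nat_lit 1)
(Net.cons (nat_lit 0x2481009209020004c92400648) (nat_lit 2)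
(Net.cons (nat_lit 0x1820a0040811c01c1001040c0) (nat_lit 3)
(Net.cons (nat_lit 0x2d01901d809409001e05c024) (nat_lit 6)
(Net.cons (nat_lit 0x3c20000d04001434000750) (nat_lit 13)
(Net.cons (nat_lit 0x7acd92800000107e9c0) (nat_lit 25)
(Net.cons (nat_lit 0x2029e391d6220) (nat_lit 50)
Net.nil)))))))))))))

noncomputable def x2 : Net :=
(Net.cons (nat_lit 0x6cbbc6fc8fc8) (nat_lit 50)
(Net.cons (nat_lit 0x5cf5378000001a75410) (nat_lit 25)
(Net.cons (nat_lit 0x6f1000295c0018680005a7) (nat_lit 13)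
(Net.cons (nat_lit 0x2800a005005808005200000a) (nat_lit 6)
(Net.cons (nat_lit 0x600020610200100000086) (nat_lit 3)
(Net.cons (nat_lit 0x80040000020900802010008) (nat_lit 2)
(Net.cons (nat_lit 0x484248242124900492090a08) (nat_lit 1)
(Net.cons (nat_lit 0x208240004804812090200) (nat_lit 2)
(Net.cons (nat_lit 0x40a0082030c51020808a007) (nat_lit 3)
(Net.cons (nat_lit 0x800f015001802c07400e00b) (nat_lit 6)
(Net.cons (nat_lit 0x6f7000105c0006a8000798) (nat_lit 13)
(Net.cons (nat_lit 0x7d086c0000016fb332) (nat_lit 25)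
(Net.cons (nat_lit 0x641643435141) (nat_lit 50)
Net.nil)))))))))))))

noncomputable def x3 : Net :=
(Net.cons (nat_lit 0x39530db11618a) (nat_lit 50)
(Net.cons (nat_lit 0x7f50e300000003ec760) (nat_lit 25)
(Net.cons (nat_lit 0x5080000e60000d50000127) (nat_lit 13)
(Net.cons (nat_lit 0x201e01100a000803a014001) (nat_lit 6)
(Net.cons (nat_lit 0x40a00420210600000000182) (nat_lit 3)
(Net.cons (nat_lit 0x402200040100000012092401) (nat_lit 2)
(Net.cons (nat_lit 0x2481209040924825492092801) (nat_lit 1)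
(Net.cons (nat_lit 0x483009201804820402492049) (nat_lit 2)
(Net.cons (nat_lit 0x85060822051420818c18c000) (nat_lit 3)
(Net.cons (nat_lit 0x400c01880dc02c06c03000c) (nat_lit 6)
(Net.cons (nat_lit 0x48e0003074000ed4000035) (nat_lit 13)
(Net.cons (nat_lit 0x9dc2900000012dff8a) (nat_lit 25)
(Net.cons (nat_lit 0x3d5342d2b5124) (nat_lit 50)
Net.nil)))))))))))))

noncomputable def x4 : Net :=
(Net.cons (nat_lit 0x3a72cd2fb4020) (nat_lit 50)
(Net.cons (nat_lit 0x31cca90000001880a3c) (nat_lit 25)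
(Net.cons (nat_lit 0xb0001f340007ea000b01) (nat_lit 13)
(Net.cons (nat_lit 0x3001400200b8000020010029) (nat_lit 6)
(Net.cons (nat_lit 0x800600c00618200004204006) (nat_lit 3)
(Net.cons (nat_lit 0x80001049100804000400041) (nat_lit 2)
(Net.cons (nat_lit 0x2094249048920905082410241) (nat_lit 1)
(Net.cons (nat_lit 0x1041249904800882410440) (nat_lit 2)
(Net.cons (nat_lit 0x7020802821410400408c083) (nat_lit 3)
(Net.cons (nat_lit 0x2a00a01400dc080004078002) (nat_lit 6)
(Net.cons (nat_lit 0x60b8003c54001be4000a71) (nat_lit 13)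
(Net.cons (nat_lit 0x5315a20000001b15ab8) (nat_lit 25)
(Net.cons (nat_lit 0x338c04b237ec0) (nat_lit 50)
Net.nil)))))))))))))

noncomputable def x5 : Net :=
(Net.cons (nat_lit 0x28ccdcb170f90) (nat_lit 50)
(Net.cons (nat_lit 0x50c480000001014c00) (nat_lit 25)
(Net.cons (nat_lit 0x10b0002360000cd4000370) (nat_lit 13)
(Net.cons (nat_lit 0x1001c01100380f8036050004) (nat_lit 6)
(Net.cons (nat_lit 0x40400010000000000200080) (nat_lit 3)
(Net.cons (nat_lit 0x10040000024000000400000) (nat_lit 2)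
(Net.cons (nat_lit 0x2010248040024025480410000) (nat_lit 1)
(Net.cons (nat_lit 0x2083040240020900010480409) (nat_lit 2)
(Net.cons (nat_lit 0x830400838404700184208187) (nat_lit 3)
(Net.cons (nat_lit 0x2a01e00780180f8036054004) (nat_lit 6)
(Net.cons (nat_lit 0x10b0002d44000cd4000b74) (nat_lit 13)
(Net.cons (nat_lit 0x50c480000001034c62) (nat_lit 25)
(Net.cons (nat_lit 0x28ccdcb170f90) (nat_lit 50)
Net.nil)))))))))))))

noncomputable def x6 : Net :=
(Net.cons (nat_lit 0xca71244030c0) (nat_lit 50)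
(Net.cons (nat_lit 0x6d9a320000001df7b84) (nat_lit 25)
(Net.cons (nat_lit 0x1000031d8000c8c0000d1) (nat_lit 13)
(Net.cons (nat_lit 0x3600301d006001006803402a) (nat_lit 6)
(Net.cons (nat_lit 0x400608400180008142) (nat_lit 3)
(Net.cons (nat_lit 0x2010000000120800000002448) (nat_lit 2)
(Net.cons (nat_lit 0x2414200200124904080092249) (nat_lit 1)
(Net.cons (nat_lit 0x2090009209804120812402441) (nat_lit 2)
(Net.cons (nat_lit 0x10c1021430018e008145) (nat_lit 3)
(Net.cons (nat_lit 0x3600701d00a001006803402a) (nat_lit 6)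
(Net.cons (nat_lit 0x100003438000c8c0000d1) (nat_lit 13)
(Net.cons (nat_lit 0x6d9a320000001df7b84) (nat_lit 25)
(Net.cons (nat_lit 0xcb71244030c0) (nat_lit 50)
Net.nil)))))))))))))

noncomputable def x7 : Net :=
(Net.cons (nat_lit 0x27180c7eaec78) (nat_lit 50)
(Net.cons (nat_lit 0x663e5b0000001cc1b22) (nat_lit 25)
(Net.cons (nat_lit 0xa50000100001d9e000082) (nat_lit 13)
(Net.cons (nat_lit 0x1781c00b001000205800c) (nat_lit 6)
(Net.cons (nat_lit 0x20e20820210010084100044) (nat_lit 3)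
(Net.cons (nat_lit 0x80009000020820082080441) (nat_lit 2)
(Net.cons (nat_lit 0x2495049200824825482490249) (nat_lit 1)
(Net.cons (nat_lit 0x2012049241000004480412448) (nat_lit 2)
(Net.cons (nat_lit 0x1c302088282047003023021c5) (nat_lit 3)
(Net.cons (nat_lit 0x1701f81b806806406a026011) (nat_lit 6)
(Net.cons (nat_lit 0x3b68001fac0006f000077d) (nat_lit 13)
(Net.cons (nat_lit 0x5f07638000000c36cc0) (nat_lit 25)
(Net.cons (nat_lit 0x3897b69c7af59) (nat_lit 50)
Net.nil)))))))))))))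

noncomputable def R0 : List Net := [x0, x1, x2, x3, x4, x5, x6, x7]

noncomputable def R : List Net := R0 ++ Cfsg.Agent.Comp.J2.T

theorem ok : TOK 100 R := tok_append (TOK_of_ok (by decide +kernel)) Cfsg.Agent.Comp.J2.ok

def D : List (List Nat × List Nat) :=
  [([0], [13, 11, 8, 13, 9, 11, 10, 9, 12, 9, 11, 9, 10, 9, 8]),
   ([1], [9, 11, 10, 9]),
   ([2], [13, 9, 8, 11, 13, 10, 9, 12, 8, 9, 11, 8, 9, 10, 9, 8]),
   ([7], [8, 12, 11, 8, 13, 12, 9, 10, 8, 9, 11, 9, 10])]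

theorem defs : ∀ e ∈ D, ev (sig R) e.1 = ev (sig R) e.2 :=
  eq_of_eqsP ok (by norm_num) (show eqsP (nat_lit 100) (nat_lit 7) (nat_lit 0) (nat_lit 7) R D = true by decide +kernel)

def T : List (List (List Nat)) :=
  [[[]],
   [[1, 3], []],
   [[2, 5, 6], [2, 4], [5, 6]],
   [[3, 6], [3, 6], [3, 5], [6]],
   [[4, 5], [4, 6], [4], [4, 6], [6]],
   [[5], [5, 6], [5], [5], [5], []],
   [[6], [6], [6], [6], [6], [6], []]]

def Y : List (Nat × List Nat × List Nat) :=
  [(7, [1], [1, 3]),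
   (7, [3], [3, 4, 6]),
   (7, [4], [3]),
   (7, [5], [5]),
   (7, [6], [6])]

theorem eqs : ∀ e ∈ (pcEqs 2 7 T ++ stEqs Y), ev (sig R) e.1 = ev (sig R) e.2 :=
  eq_of_eqsP ok (by norm_num) (show eqsP (nat_lit 100) (nat_lit 7) (nat_lit 0) (nat_lit 7) R (pcEqs 2 7 T ++ stEqs Y) = true by decide +kernel)

def D2 : List (List Nat × List Nat) :=
  [([0, 1, 3], [1, 0]),
   ([1, 2, 4], [2, 1]),
   ([2, 3, 5], [3, 2]),
   ([1, 5, 6], [5, 1])]

theorem allIn : AllIn Cfsg.Agent.Comp.J2.phi.range R :=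
  AllIn.ext Cfsg.Agent.Schur.J2.allIn (o := 8) rfl (eqs_append defs (eqs_swap (D := D2) eqs (by decide +kernel))) (by decide +kernel)

def lv : List (List (List Nat) × List Nat × Nat × Nat) :=
  [([[0], [3, 4]], [0, 1], 4, 4),
   ([[1]], [0], 51, 2),
   ([[4, 6], [2]], [1, 0], 10, 4),
   ([[5]], [0], 0, 2),
   ([[6]], [0], 37, 2)]

theorem low : 2 ^ 7 ≤ Nat.card (gen (sig R) 7) :=
  low_gen (l := 7) (lv := lv) ok (by norm_num) (by decide +kernel) (by decide +kernel)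

def I0 : List Ins :=
  [Ins.cons (nat_lit 0x6) (nat_lit 1) (nat_lit 0x41) (nat_lit 0x1002),
   Ins.cons (nat_lit 0x7) (nat_lit 1) (nat_lit 0x186) (nat_lit 0x1b02),
   Ins.cons (nat_lit 0x4) (nat_lit 1) (nat_lit 0x104) (nat_lit 0x1903),
   Ins.cons (nat_lit 0x5) (nat_lit 1) (nat_lit 0x145) (nat_lit 0x1a03),
   Ins.cons (nat_lit 0x6) (nat_lit 1) (nat_lit 0xc6) (nat_lit 0x1202),
   Ins.cons (nat_lit 0x7) (nat_lit 1) (nat_lit 0xc7) (nat_lit 0x1802),
   Ins.cons (nat_lit 0x6) (nat_lit 1) (nat_lit 0x106) (nat_lit 0x1302),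
   Ins.cons (nat_lit 0x6) (nat_lit 1) (nat_lit 0x146) (nat_lit 0x1402),
   Ins.cons (nat_lit 0x4) (nat_lit 1) (nat_lit 0x41) (nat_lit 0x1c030160300702),
   Ins.cons (nat_lit 0x5) (nat_lit 1) (nat_lit 0x41) (nat_lit 0x15030100300b02),
   Ins.cons (nat_lit 0x4) (nat_lit 1) (nat_lit 0x82) (nat_lit 0x1c030170300802),
   Ins.cons (nat_lit 0x6) (nat_lit 1) (nat_lit 0x104) (nat_lit 0x1b0301302),
   Ins.cons (nat_lit 0x2) (nat_lit 1) (nat_lit 0x41) (nat_lit 0x1c0300a030070300202),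
   Ins.cons (nat_lit 0x3) (nat_lit 1) (nat_lit 0x82) (nat_lit 0x1c0300f0300c0300502),
   Ins.cons (nat_lit 0x3) (nat_lit 1) (nat_lit 0xc3) (nat_lit 0x180301203),
   Ins.cons (nat_lit 0x5) (nat_lit 1) (nat_lit 0xc5) (nat_lit 0x180300d02),
   Ins.cons (nat_lit 0x6) (nat_lit 1) (nat_lit 0x86) (nat_lit 0x1c0101b0101102),
   Ins.cons (nat_lit 0x3) (nat_lit 1) (nat_lit 0x41) (nat_lit 0x1c0301b0301603015030100300402),
   Ins.cons (nat_lit 0x5) (nat_lit 1) (nat_lit 0xc3) (nat_lit 0x1a030140300d02),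
   Ins.cons (nat_lit 0x2) (nat_lit 1) (nat_lit 0x42) (nat_lit 0x1c010190100a010080100202),
   Ins.cons (nat_lit 0x5) (nat_lit 1) (nat_lit 0x45) (nat_lit 0x1b0201603015010140100b02),
   Ins.cons (nat_lit 0x4) (nat_lit 1) (nat_lit 0xc4) (nat_lit 0x1b0201803015010130100902),
   Ins.cons (nat_lit 0x6) (nat_lit 1) (nat_lit 0x42) (nat_lit 0x19010160301301),
   Ins.cons (nat_lit 0x3) (nat_lit 1) (nat_lit 0x83) (nat_lit 0x1b0101a0201703014020110300f0100d0100502),
   Ins.cons (nat_lit 0x4) (nat_lit 1) (nat_lit 0x83) (nat_lit 0x1c0301a0101801014010110300e03),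
   Ins.cons (nat_lit 0x3) (nat_lit 1) (nat_lit 0x42) (nat_lit 0x1c0101a030170101503013010110100e0100b0300903),
   Ins.stab 7 [2, 2] [4] (nat_lit 0x210101f0200f0100a03),
   Ins.stab 7 [1, 1] [4] (nat_lit 0x210101e0201c0201a020190300f0300e03),
   Ins.stab 7 [3, 0] [0, 3, 4] (nat_lit 0x21010190301303)]

theorem ins0 : InsOK 7 0 33 T Y 3 I0 :=
  InsOK.of 10 (show lall (insOK (nat_lit 7) (nat_lit 0) (nat_lit 10) (nat_lit 33) T Y (nat_lit 3)) I0 = true by decide +kernel)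

def I : List Ins := I0

def K : List Nat :=
  [nat_lit 0x9010070100403]

def O : List Nat :=
  [nat_lit 0x1703016010150101303012010100100f0200c0100a01009030080100703006020050300401003030020300103]

def U : List Nat :=
  [nat_lit 0x101,
   nat_lit 0x301,
   nat_lit 0x60100403,
   nat_lit 0x202,
   nat_lit 0x502,
   nat_lit 0x70200402,
   nat_lit 0x702]

def C : List (List Nat) :=
  [[nat_lit 0x0],
  [nat_lit 0x0,
   nat_lit 0x0],
  [nat_lit 0x0,
   nat_lit 0x0,
   nat_lit 0x0],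
  [nat_lit 0x0,
   nat_lit 0x150100e0100401,
   nat_lit 0x101,
   nat_lit 0x120100e0100d01],
  [nat_lit 0x1b0101a0101701014010120100d0100c010050100101,
   nat_lit 0x1e0101c01017010160101401012010110100f0100e0100d0100a010050100401,
   nat_lit 0x1e0101d0101a010190101701016010120100c0100a0100501,
   nat_lit 0x1d0101c010120100e0100d0100401,
   nat_lit 0x1e0101c010170101601014010110100e0100a010050100401],
  [nat_lit 0x1601014010120100d0100b0100a0100501,
   nat_lit 0x1d0101c0101a01014010110100e0100401,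
   nat_lit 0x110101001,
   nat_lit 0x17010160101401012010110100d0100a0100501,
   nat_lit 0x140100501,
   nat_lit 0x1601014010120100d0100a0100501],
  [nat_lit 0x120100d0100a01,
   nat_lit 0x120100d0100c01,
   nat_lit 0x1101,
   nat_lit 0x401,
   nat_lit 0x501,
   nat_lit 0xd01,
   nat_lit 0x120100d01]]

theorem ord : ordsOK 2 (Nat.succ 3) 9 33 (insL I) K [1] O = true :=
  show ordsOK (nat_lit 2) (Nat.succ (nat_lit 3)) (nat_lit 9) (nat_lit 33) (insL I) K [1] O = true by decide +kernel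

theorem tgt0 : TgtOK 2 33 T 2 3 (K ++ insL I) U C 0 7 :=
  TgtOK.of 9 7 rfl (show tgtRows (nat_lit 2) (nat_lit 9) (nat_lit 33) T (nat_lit 2) (nat_lit 3) (K ++ insL I) U C (nat_lit 0) (nat_lit 7) = true by decide +kernel)

theorem gen : PGen Cfsg.Agent.Comp.J2.G 2 [1] :=
  haveI := Cfsg.Agent.Schur.J2.card.1
  pgen_net Cfsg.Agent.Comp.J2.card.2.2 allIn Cfsg.Agent.Schur.J2.card.2 (by norm_num) rfl eqs low (by norm_num) (by decide +kernel) (E := 1) (I := I)
    (ins0) ord (a := 1) tgt0 (by decide +kernel)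

end P2

end Cfsg.Agent.Schur.J2
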