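import Cfsg.Agent.Schur.J2.Base

set_option autoImplicit false
set_option maxRecDepth 100000

namespace Cfsg.Agent.Schur.J2
open Cfsg.Agent.Comp Cfsg.Agent.Schur

namespace P3

noncomputable def x0 : Net :=
(Net.cons (nat_lit 0x15b68bed0e38) (nat_lit 50)
(Net.cons (nat_lit 0x6fc41a800000045d3ac) (nat_lit 25)
(Net.cons (nat_lit 0x4240000408000cb2000951) (nat_lit 13)
(Net.cons (nat_lit 0x2601c0090004000042058036) (nat_lit 6)
(Net.cons (nat_lit 0x20410400080100084) (nat_lit 3)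
(Net.cons (nat_lit 0x41040004000800002000) (nat_lit 2)
(Net.cons (nat_lit 0x490041242924901080402808) (nat_lit 1)
(Net.cons (nat_lit 0x402001200120824092402608) (nat_lit 2)
(Net.cons (nat_lit 0x1810420e0030041c280084001) (nat_lit 3)
(Net.cons (nat_lit 0x1501e003800002003a03c01e) (nat_lit 6)
(Net.cons (nat_lit 0x3078003004000eac000329) (nat_lit 13)
(Net.cons (nat_lit 0x2ffc00c0000002e49a8) (nat_lit 25)
(Net.cons (nat_lit 0x3e6bacab5a2e4) (nat_lit 50)
Net.nil)))))))))))))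

noncomputable def x1 : Net :=
(Net.cons (nat_lit 0x131a805571538) (nat_lit 50)
(Net.cons (nat_lit 0xb0362800000114941c) (nat_lit 25)
(Net.cons (nat_lit 0x7c00001380018c6000f2e) (nat_lit 13)
(Net.cons (nat_lit 0x400a01d00180b807c040007) (nat_lit 6)
(Net.cons (nat_lit 0x810420708018204200080) (nat_lit 3)
(Net.cons (nat_lit 0x480009200000104010000000) (nat_lit 2)
(Net.cons (nat_lit 0x2491249242104905490490a01) (nat_lit 1)
(Net.cons (nat_lit 0x2080209040104924080092401) (nat_lit 2)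
(Net.cons (nat_lit 0x86060040821421420e100087) (nat_lit 3)
(Net.cons (nat_lit 0x1301981900000c007c01a019) (nat_lit 6)
(Net.cons (nat_lit 0x20180034780004fe000bd6) (nat_lit 13)
(Net.cons (nat_lit 0x10cd84c00000125ba3c) (nat_lit 25)
(Net.cons (nat_lit 0x256f90b3d8024) (nat_lit 50)
Net.nil)))))))))))))

noncomputable def x2 : Net :=
(Net.cons (nat_lit 0x153895a812242) (nat_lit 50)
(Net.cons (nat_lit 0x4252d00000001455248) (nat_lit 25)
(Net.cons (nat_lit 0x3ae80036d0001a560006b0) (nat_lit 13)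
(Net.cons (nat_lit 0x3200681800500a000e010036) (nat_lit 6)
(Net.cons (nat_lit 0x4082040001801010c008084) (nat_lit 3)
(Net.cons (nat_lit 0x480240041020804002002008) (nat_lit 2)
(Net.cons (nat_lit 0x485248242020905082492048) (nat_lit 1)
(Net.cons (nat_lit 0x1200041000000080482200) (nat_lit 2)
(Net.cons (nat_lit 0x106042802831c51428c180100) (nat_lit 3)
(Net.cons (nat_lit 0x3001800e001c08005e016010) (nat_lit 6)
(Net.cons (nat_lit 0x38f0002670001252000bf4) (nat_lit 13)
(Net.cons (nat_lit 0x6f0a1a0000000047d64) (nat_lit 25)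
(Net.cons (nat_lit 0x173c58c662808) (nat_lit 50)
Net.nil)))))))))))))

noncomputable def x3 : Net :=
(Net.cons (nat_lit 0x10e244787f524) (nat_lit 50)
(Net.cons (nat_lit 0x24e9a28000001cb1d6a) (nat_lit 25)
(Net.cons (nat_lit 0x7640002af0000b700004f6) (nat_lit 13)
(Net.cons (nat_lit 0x140050100090060050010017) (nat_lit 6)
(Net.cons (nat_lit 0x1060020810108210108008144) (nat_lit 3)
(Net.cons (nat_lit 0x80208000020004010002048) (nat_lit 2)
(Net.cons (nat_lit 0x2484208040924824410492849) (nat_lit 1)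
(Net.cons (nat_lit 0x2002201049004120412492000) (nat_lit 2)
(Net.cons (nat_lit 0x101081840050450c3822040c2) (nat_lit 3)
(Net.cons (nat_lit 0x4013019805401c056066007) (nat_lit 6)
(Net.cons (nat_lit 0x38280036cc000b86000926) (nat_lit 13)
(Net.cons (nat_lit 0x19764d00000017b5240) (nat_lit 25)
(Net.cons (nat_lit 0x1959648eb505c) (nat_lit 50)
Net.nil)))))))))))))

noncomputable def R0 : List Net := [x0, x1, x2, x3]

noncomputable def R : List Net := R0 ++ Cfsg.Agent.Comp.J2.T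

theorem ok : TOK 100 R := tok_append (TOK_of_ok (by decide +kernel)) Cfsg.Agent.Comp.J2.ok

def D : List (List Nat × List Nat) :=
  [([0], [6, 4, 5, 4, 8, 5, 6, 5, 4]),
   ([1], [4, 5, 7, 4, 5, 6, 5]),
   ([3], [8, 5, 4, 7, 5, 8, 5, 6, 4, 5, 4])]

theorem defs : ∀ e ∈ D, ev (sig R) e.1 = ev (sig R) e.2 :=
  eq_of_eqsP ok (by norm_num) (show eqsP (nat_lit 100) (nat_lit 7) (nat_lit 0) (nat_lit 7) R D = true by decide +kernel)

def T : List (List (List Nat)) :=
  [[[]],
   [[1, 2], []],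
   [[2], [2], []]]

def Y : List (Nat × List Nat × List Nat) :=
  [(3, [0], [0, 0, 2]),
   (3, [1], [1, 1]),
   (3, [2], [2])]

theorem eqs : ∀ e ∈ (pcEqs 3 3 T ++ stEqs Y), ev (sig R) e.1 = ev (sig R) e.2 :=
  eq_of_eqsP ok (by norm_num) (show eqsP (nat_lit 100) (nat_lit 7) (nat_lit 0) (nat_lit 7) R (pcEqs 3 3 T ++ stEqs Y) = true by decide +kernel)

def D2 : List (List Nat × List Nat) :=
  [([0, 1, 2], [1, 0])]

theorem allIn : AllIn Cfsg.Agent.Comp.J2.phi.range R :=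
  AllIn.ext Cfsg.Agent.Schur.J2.allIn (o := 4) rfl (eqs_append defs (eqs_swap (D := D2) eqs (by decide +kernel))) (by decide +kernel)

def lv : List (List (List Nat) × List Nat × Nat × Nat) :=
  [([[0], [2, 2]], [0, 0, 2, 0, 0], 1, 9),
   ([[1]], [0, 0], 17, 3)]

theorem low : 3 ^ 3 ≤ Nat.card (gen (sig R) 3) :=
  low_gen (l := 7) (lv := lv) ok (by norm_num) (by decide +kernel) (by decide +kernel)

def I0 : List Ins :=
  [Ins.cons (nat_lit 0x2) (nat_lit 1) (nat_lit 0x1041) (nat_lit 0x602),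
   Ins.stab 3 [2, 1] [1, 2] (nat_lit 0x502),
   Ins.stab 3 [2, 0] [0, 2] (nat_lit 0x402)]

theorem ins0 : InsOK 3 1 9 T Y 2 I0 :=
  InsOK.of 9 (show lall (insOK (nat_lit 3) (nat_lit 1) (nat_lit 9) (nat_lit 9) T Y (nat_lit 2)) I0 = true by decide +kernel)

def I : List Ins := I0

def K : List Nat :=
  []

def O : List Nat :=
  []

def U : List Nat :=
  [nat_lit 0x101,
   nat_lit 0x301,
   nat_lit 0x206]

def C : List (List Nat) :=
  [[nat_lit 0x0],
  [nat_lit 0x0,
   nat_lit 0x0],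
  [nat_lit 0x301,
   nat_lit 0x201,
   nat_lit 0x101]]

theorem ord : ordsOK 3 (Nat.succ 2) 3 9 (insL I) K [] O = true :=
  show ordsOK (nat_lit 3) (Nat.succ (nat_lit 2)) (nat_lit 3) (nat_lit 9) (insL I) K [] O = true by decide +kernel

theorem tgt0 : TgtOK 3 9 T 3 8 (K ++ insL I) U C 0 3 :=
  TgtOK.of 9 3 rfl (show tgtRows (nat_lit 3) (nat_lit 9) (nat_lit 9) T (nat_lit 3) (nat_lit 8) (K ++ insL I) U C (nat_lit 0) (nat_lit 3) = true by decide +kernel)

theorem gen : PGen Cfsg.Agent.Comp.J2.G 3 [] :=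
  haveI := Cfsg.Agent.Schur.J2.card.1
  pgen_net Cfsg.Agent.Comp.J2.card.2.2 allIn Cfsg.Agent.Schur.J2.card.2 (by norm_num) rfl eqs low (by norm_num) (by decide +kernel) (E := 0) (I := I)
    (ins0) ord (a := 1) tgt0 (by decide +kernel)

end P3

end Cfsg.Agent.Schur.J2
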