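import Cfsg.Agent.Schur.J2.Base

set_option autoImplicit false
set_option maxRecDepth 100000

namespace Cfsg.Agent.Schur.J2
open Cfsg.Agent.Comp Cfsg.Agent.Schur

namespace P5

noncomputable def x0 : Net :=
(Net.cons (nat_lit 0x1a99335579c42) (nat_lit 50)
(Net.cons (nat_lit 0x10307f0000001e22516) (nat_lit 25)
(Net.cons (nat_lit 0x25100015b4001126000c1a) (nat_lit 13)
(Net.cons (nat_lit 0xc00201f00f000004606c02a) (nat_lit 6)
(Net.cons (nat_lit 0x1040200010110010100104180) (nat_lit 3)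
(Net.cons (nat_lit 0x400008040004020010490440) (nat_lit 2)
(Net.cons (nat_lit 0x484009248904021490492241) (nat_lit 1)
(Net.cons (nat_lit 0x2013041209824900890410641) (nat_lit 2)
(Net.cons (nat_lit 0x1c1063083861c5040863800c1) (nat_lit 3)
(Net.cons (nat_lit 0x2c00180c001807c07400a02d) (nat_lit 6)
(Net.cons (nat_lit 0x65e8000b240001ac000182) (nat_lit 13)
(Net.cons (nat_lit 0x68fccc4000000a00ef5) (nat_lit 25)
(Net.cons (nat_lit 0x15cab0af54b0a) (nat_lit 50)
Net.nil)))))))))))))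

noncomputable def x1 : Net :=
(Net.cons (nat_lit 0x15a383ba06d78) (nat_lit 50)
(Net.cons (nat_lit 0x281b3900000000a74f4) (nat_lit 25)
(Net.cons (nat_lit 0x3168001108001cd400068c) (nat_lit 13)
(Net.cons (nat_lit 0x600d801001c0a8044030018) (nat_lit 6)
(Net.cons (nat_lit 0x2080002060000038420c082) (nat_lit 3)
(Net.cons (nat_lit 0x2049008104900080000009) (nat_lit 2)
(Net.cons (nat_lit 0x81249048124900082402849) (nat_lit 1)
(Net.cons (nat_lit 0x90241001000004802082041) (nat_lit 2)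
(Net.cons (nat_lit 0x1020e3882050c408006382047) (nat_lit 3)
(Net.cons (nat_lit 0x3600301980c805407005403b) (nat_lit 6)
(Net.cons (nat_lit 0x65e0002f8800188e0000b2) (nat_lit 13)
(Net.cons (nat_lit 0x6939bc000001b447b3) (nat_lit 25)
(Net.cons (nat_lit 0x16ce104fc8d20) (nat_lit 50)
Net.nil)))))))))))))

noncomputable def x2 : Net :=
(Net.cons (nat_lit 0x1b47c4f338c48) (nat_lit 50)
(Net.cons (nat_lit 0x70303e0000000a5a590) (nat_lit 25)
(Net.cons (nat_lit 0x43f00023680000ec000299) (nat_lit 13)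
(Net.cons (nat_lit 0x2c01c00600a0060004020000) (nat_lit 6)
(Net.cons (nat_lit 0x1060a20820010010100008000) (nat_lit 3)
(Net.cons (nat_lit 0x400040208020920000410440) (nat_lit 2)
(Net.cons (nat_lit 0x41404820a920925090410848) (nat_lit 1)
(Net.cons (nat_lit 0x12201008024100412402040) (nat_lit 2)
(Net.cons (nat_lit 0x140083861050c708186200180) (nat_lit 3)
(Net.cons (nat_lit 0x35001016809807002006601f) (nat_lit 6)
(Net.cons (nat_lit 0x2bb80004f8001bc80008b3) (nat_lit 13)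
(Net.cons (nat_lit 0x4c60054000001794c94) (nat_lit 25)
(Net.cons (nat_lit 0x170dc71153d62) (nat_lit 50)
Net.nil)))))))))))))

noncomputable def R0 : List Net := [x0, x1, x2]

noncomputable def R : List Net := R0 ++ Cfsg.Agent.Comp.J2.T

theorem ok : TOK 100 R := tok_append (TOK_of_ok (by decide +kernel)) Cfsg.Agent.Comp.J2.ok

def D : List (List Nat × List Nat) :=
  [([0], [4, 5, 7, 8, 6, 3, 4, 7, 3, 4, 6, 5, 3, 4]),
   ([1], [8, 4, 7, 4, 5, 8, 7, 6, 3, 4, 7, 4, 5, 3, 4, 3]),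
   ([2], [8, 3, 7, 5, 3, 8, 5, 3, 4, 3, 7, 5, 3, 4, 6, 5])]

theorem defs : ∀ e ∈ D, ev (sig R) e.1 = ev (sig R) e.2 :=
  eq_of_eqsP ok (by norm_num) (show eqsP (nat_lit 100) (nat_lit 7) (nat_lit 0) (nat_lit 7) R D = true by decide +kernel)

def T : List (List (List Nat)) :=
  [[[]],
   [[1], []]]

def Y : List (Nat × List Nat × List Nat) :=
  [(2, [0], [0, 1, 1]),
   (2, [1], [1, 1, 1, 1])]

theorem eqs : ∀ e ∈ (pcEqs 5 2 T ++ stEqs Y), ev (sig R) e.1 = ev (sig R) e.2 :=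
  eq_of_eqsP ok (by norm_num) (show eqsP (nat_lit 100) (nat_lit 7) (nat_lit 0) (nat_lit 7) R (pcEqs 5 2 T ++ stEqs Y) = true by decide +kernel)

def D2 : List (List Nat × List Nat) :=
  []

theorem allIn : AllIn Cfsg.Agent.Comp.J2.phi.range R :=
  AllIn.ext Cfsg.Agent.Schur.J2.allIn (o := 3) rfl (eqs_append defs (eqs_swap (D := D2) eqs (by decide +kernel))) (by decide +kernel)

def lv : List (List (List Nat) × List Nat × Nat × Nat) :=
  [([[0], [1]], [0, 1, 0, 1, 0, 1, 0, 1], 0, 25)]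

theorem low : 5 ^ 2 ≤ Nat.card (gen (sig R) 2) :=
  low_gen (l := 7) (lv := lv) ok (by norm_num) (by decide +kernel) (by decide +kernel)

def I0 : List Ins :=
  [Ins.stab 2 [1, 0] [0, 1] (nat_lit 0x202)]

theorem ins0 : InsOK 2 3 5 T Y 4 I0 :=
  InsOK.of 10 (show lall (insOK (nat_lit 2) (nat_lit 3) (nat_lit 10) (nat_lit 5) T Y (nat_lit 4)) I0 = true by decide +kernel)

def I : List Ins := I0

def K : List Nat :=
  []

def O : List Nat :=
  []

def U : List Nat :=
  [nat_lit 0x101,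
   nat_lit 0x301]

def C : List (List Nat) :=
  [[nat_lit 0x0],
  [nat_lit 0x102,
   nat_lit 0x0]]

theorem ord : ordsOK 5 (Nat.succ 4) 3 5 (insL I) K [] O = true :=
  show ordsOK (nat_lit 5) (Nat.succ (nat_lit 4)) (nat_lit 3) (nat_lit 5) (insL I) K [] O = true by decide +kernel

theorem tgt0 : TgtOK 5 5 T 5 24 (K ++ insL I) U C 0 2 :=
  TgtOK.of 9 2 rfl (show tgtRows (nat_lit 5) (nat_lit 9) (nat_lit 5) T (nat_lit 5) (nat_lit 24) (K ++ insL I) U C (nat_lit 0) (nat_lit 2) = true by decide +kernel)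

theorem gen : PGen Cfsg.Agent.Comp.J2.G 5 [] :=
  haveI := Cfsg.Agent.Schur.J2.card.1
  pgen_net Cfsg.Agent.Comp.J2.card.2.2 allIn Cfsg.Agent.Schur.J2.card.2 (by norm_num) rfl eqs low (by norm_num) (by decide +kernel) (E := 0) (I := I)
    (ins0) ord (a := 1) tgt0 (by decide +kernel)

end P5

end Cfsg.Agent.Schur.J2
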